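import Groth.Agent.BlowUpLib.Glue
import Groth.Agent.H23.PnLine
import Groth.Agent.PnCoh.Chow.Proper

/-!
# An integral closed subscheme of projective space birational to the affine base is a blow-up
-/

set_option autoImplicit false
set_option backward.isDefEq.respectTransparency false
universe u
open CategoryTheory Limits AlgebraicGeometry

namespace Groth.Agent.BirProj

open H23.PnLine (coord vecHom vecHom_coord hom_ext Z)

/-- The ring map of a morphism to an affine scheme. -/
noncomputable def topHom {W : Scheme.{u}} {R : CommRingCat.{u}} (q : W ⟶ Spec R) : R →+* Γ(W, ⊤) :=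
  ((Scheme.ΓSpecIso R).inv ≫ q.appTop).hom

theorem topHom_comp {W' W : Scheme.{u}} {R : CommRingCat.{u}} (g : W' ⟶ W) (q : W ⟶ Spec R) :
    topHom (g ≫ q) = g.appTop.hom.comp (topHom q) := by
  simp only [topHom, ← CommRingCat.hom_comp, Scheme.Hom.comp_appTop, Category.assoc]

theorem topHom_comp_SpecMap {W : Scheme.{u}} {R R' : CommRingCat.{u}} (q : W ⟶ Spec R) (φ : R' ⟶ R) :
    topHom (q ≫ Spec.map φ) = (topHom q).comp φ.hom := by
  simp only [topHom, ← CommRingCat.hom_comp, Scheme.Hom.comp_appTop]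
  rw [← Category.assoc, ← Category.assoc, ← Scheme.ΓSpecIso_inv_naturality]

theorem topHom_ext {W : Scheme.{u}} {R : CommRingCat.{u}} {q q' : W ⟶ Spec R} (h : topHom q = topHom q') :
    q = q' := by
  refine AlgebraicGeometry.ext_of_isAffine ?_
  rw [← cancel_epi (Scheme.ΓSpecIso R).inv]
  exact CommRingCat.hom_ext h

variable {n : ℕ}

/-- The grading of the polynomial ring over `ℤ`. -/
noncomputable abbrev gr (n : ℕ) := CohB1.polyGrading n Z.{u}
/-- Projective space over `ℤ`. -/
noncomputable abbrev PN (n : ℕ) : Scheme.{u} := CohB1.ProjSpace n Z.{u}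

theorem X_mem (j : Fin (n + 1)) :
    (MvPolynomial.X j : MvPolynomial (Fin (n + 1)) Z.{u}) ∈ CohB1.polyGrading n Z.{u} 1 :=
  (MvPolynomial.mem_homogeneousSubmodule 1 _).mpr (MvPolynomial.isHomogeneous_X _ j)

/-- The standard chart. -/
noncomputable abbrev chartP (j : Fin (n + 1)) :
    Spec (CommRingCat.of (HomogeneousLocalization.Away (gr.{u} n) (MvPolynomial.X j))) ⟶ (PN.{u} n) :=
  Proj.awayι (gr.{u} n) (MvPolynomial.X j) (X_mem j) Nat.one_pos

/-- The coordinate `x_m / x_j` on a scheme mapped to the chart `j`. -/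
noncomputable def ratio {W : Scheme.{u}} {j : Fin (n + 1)}
    (q : W ⟶ Spec (CommRingCat.of (HomogeneousLocalization.Away (gr.{u} n) (MvPolynomial.X j)))) (m : Fin (n + 1)) :
    Γ(W, ⊤) :=
  topHom q (coord (X_mem j) m)

theorem ratio_comp {W' W : Scheme.{u}} {j : Fin (n + 1)} (g : W' ⟶ W)
    (q : W ⟶ Spec (CommRingCat.of (HomogeneousLocalization.Away (gr.{u} n) (MvPolynomial.X j)))) (m : Fin (n + 1)) :
    ratio (g ≫ q) m = g.appTop (ratio q m) := by
  rw [ratio, topHom_comp]; rfl

theorem iSup_range_chartP : ⨆ j, (chartP.{u} (n := n) j).opensRange = ⊤ := by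
  simp only [Proj.opensRange_awayι]
  refine Proj.iSup_basicOpen_eq_top' _ _ (fun i => ⟨1, X_mem i⟩) ?_
  refine top_le_iff.1 fun p _ => ?_
  induction p using MvPolynomial.induction_on with
  | C r => exact Subalgebra.algebraMap_mem _ (⟨MvPolynomial.C r, MvPolynomial.isHomogeneous_C _ _⟩ : CohB1.polyGrading n Z.{u} 0)
  | add a b ha hb => exact add_mem (ha trivial) (hb trivial)
  | mul_X a j ha => exact mul_mem (ha trivial) (Algebra.subset_adjoin ⟨j, rfl⟩)

theorem range_subset_of_isUnit_ratio {W : Scheme.{u}} {j k : Fin (n + 1)}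
    (q : W ⟶ Spec (CommRingCat.of (HomogeneousLocalization.Away (gr.{u} n) (MvPolynomial.X k))))
    (hu : IsUnit (ratio q j)) : ∀ w, (q ≫ chartP k) w ∈ (chartP j).opensRange := by
  intro w
  rw [Proj.opensRange_awayι]
  show q w ∈ chartP k ⁻¹ᵁ Proj.basicOpen (gr.{u} n) (MvPolynomial.X j)
  rw [Proj.awayι_preimage_basicOpen (gr.{u} n) (X_mem k) Nat.one_pos (X_mem j) Nat.one_pos]
  have e : HomogeneousLocalization.Away.isLocalizationElem (X_mem k) (X_mem j) = coord (X_mem k) j := by
    apply HomogeneousLocalization.val_injective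
    simp [coord, HomogeneousLocalization.Away.isLocalizationElem]
  rw [e]
  intro hmem
  have h1 : q ⁻¹ᵁ PrimeSpectrum.basicOpen (coord (X_mem k) j) = W.basicOpen (ratio q j) := by
    erw [← AlgebraicGeometry.basicOpen_eq_of_affine, Scheme.preimage_basicOpen_top]
    rfl
  have h2 : w ∈ W.basicOpen (ratio q j) := by rw [W.basicOpen_of_isUnit hu]; trivial
  rw [← h1] at h2
  exact h2 hmem

section Main

variable {X' : Scheme.{u}} [IsIntegral X'] {A : Type u} [CommRing A] [IsDomain A]
  (f : X' ⟶ Spec (CommRingCat.of A)) (p : X' ⟶ (PN.{u} n)) (t : Fin (n + 1) → A)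

theorem topHom_injective (hf : (f (genericPoint X')).asIdeal = ⊥)
    {W : Scheme.{u}} (g : W ⟶ X') [IsOpenImmersion g] [Nonempty W] :
    Function.Injective (topHom (g ≫ f)) := by
  refine (injective_iff_map_eq_zero _).mpr fun a ha => ?_
  have h1 : (g ≫ f) ⁻¹ᵁ PrimeSpectrum.basicOpen a = W.basicOpen (topHom (g ≫ f) a) := by
    erw [← AlgebraicGeometry.basicOpen_eq_of_affine, Scheme.preimage_basicOpen_top]
    rfl
  rw [ha, Scheme.basicOpen_zero] at h1
  obtain ⟨w⟩ := ‹Nonempty W›
  obtain ⟨z, hz⟩ : genericPoint X' ∈ g.opensRange :=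
    ((genericPoint_spec X').mem_open_set_iff g.opensRange.isOpen).mpr ⟨g w, trivial, w, rfl⟩
  by_contra ha0
  have : z ∈ (g ≫ f) ⁻¹ᵁ PrimeSpectrum.basicOpen a := by
    show a ∉ ((g ≫ f) z).asIdeal
    rw [Scheme.Hom.comp_apply, hz, hf]
    exact ha0
  rw [h1] at this
  exact this

/-- The relations `t_m = (x_m / x_j) t_j`. -/
def Rel : Prop :=
  ∀ (j : Fin (n + 1)) (W : Scheme.{u}) (g : W ⟶ X') (_ : IsOpenImmersion g) (_ : Nonempty W)
    (q : W ⟶ Spec (CommRingCat.of (HomogeneousLocalization.Away (gr.{u} n) (MvPolynomial.X j)))),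
    q ≫ chartP j = g ≫ p → ∀ m, topHom (g ≫ f) (t m) = ratio q m * topHom (g ≫ f) (t j)

variable {f p t}
variable (hrel : Rel f p t) (hf : (f (genericPoint X')).asIdeal = ⊥) (ht : ∃ j, t j ≠ 0)

include hrel hf ht in
theorem ne_zero {W : Scheme.{u}} (g : W ⟶ X') [IsOpenImmersion g] [Nonempty W] {j : Fin (n + 1)}
    (q : W ⟶ Spec (CommRingCat.of (HomogeneousLocalization.Away (gr.{u} n) (MvPolynomial.X j))))
    (hq : q ≫ chartP j = g ≫ p) : topHom (g ≫ f) (t j) ≠ 0 := by
  obtain ⟨m, hm⟩ := ht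
  intro h
  refine hm (topHom_injective f hf g ?_)
  rw [hrel j W g inferInstance inferInstance q hq m, h, mul_zero, map_zero]

omit [IsIntegral X'] [IsDomain A] in
theorem exists_affine (x : X') (U : X'.Opens) (hx : x ∈ U) :
    ∃ (D : X'.affineOpens) (j : Fin (n + 1))
      (q : Spec Γ(X', D.1) ⟶ Spec (CommRingCat.of (HomogeneousLocalization.Away (gr.{u} n) (MvPolynomial.X j)))),
      x ∈ D.1 ∧ D.1 ≤ U ∧ q ≫ chartP j = D.2.fromSpec ≫ p := by
  obtain ⟨j, hj⟩ := TopologicalSpace.Opens.mem_iSup.mp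
    (iSup_range_chartP.ge (Set.mem_univ (p x)))
  obtain ⟨D, hD, hxD, hDle⟩ := TopologicalSpace.Opens.isBasis_iff_nbhd.mp X'.isBasis_affineOpens
    (show x ∈ U ⊓ p ⁻¹ᵁ (chartP j).opensRange from ⟨hx, hj⟩)
  have hr : Set.range (hD.fromSpec ≫ p) ⊆ Set.range (chartP j) := by
    rintro _ ⟨z, rfl⟩
    exact (hDle (hD.range_fromSpec.le (Set.mem_range_self z))).2
  exact ⟨⟨D, hD⟩, j, IsOpenImmersion.lift (chartP j) _ hr, hxD, hDle.trans inf_le_left,
    IsOpenImmersion.lift_fac _ _ _⟩

include hrel hf ht in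
theorem ideal_eq {D : X'.affineOpens} [Nonempty D.1] {j : Fin (n + 1)}
    (q : Spec Γ(X', D.1) ⟶ Spec (CommRingCat.of (HomogeneousLocalization.Away (gr.{u} n) (MvPolynomial.X j))))
    (hq : q ≫ chartP j = D.2.fromSpec ≫ p) :
    ((BlowUpLib.centre (Ideal.span (Set.range t))).comap f).ideal D =
        Ideal.span {BlowUpLib.strHom f D.1 (t j)} ∧
      BlowUpLib.strHom f D.1 (t j) ≠ 0 := by
  have : Nonempty (Spec Γ(X', D.1)) := ⟨D.2.isoSpec.hom (Classical.arbitrary D.1)⟩
  have key : ∀ a, topHom (D.2.fromSpec ≫ f) a =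
      (Scheme.ΓSpecIso Γ(X', D.1)).inv (BlowUpLib.strHom f D.1 a) := fun a => by
    rw [← BlowUpLib.SpecMap_strHom f D, topHom, ← Scheme.ΓSpecIso_inv_naturality]
    rfl
  have hinj : Function.Injective (Scheme.ΓSpecIso Γ(X', D.1)).inv :=
    (ConcreteCategory.bijective_of_isIso _).1
  refine ⟨?_, fun h => ne_zero hrel hf ht D.2.fromSpec q hq (by rw [key, h, map_zero])⟩
  rw [BlowUpLib.ideal_comap_centre, Ideal.map_span]
  refine le_antisymm (Ideal.span_le.mpr ?_) (Ideal.span_mono ?_)
  · rintro _ ⟨_, ⟨m, rfl⟩, rfl⟩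
    refine Ideal.mem_span_singleton'.mpr ⟨(Scheme.ΓSpecIso Γ(X', D.1)).hom (ratio q m), hinj ?_⟩
    rw [map_mul, ← key, ← key, Iso.hom_inv_id_apply,
      hrel j _ D.2.fromSpec inferInstance inferInstance q hq m]
  · exact Set.singleton_subset_iff.mpr ⟨t j, ⟨j, rfl⟩, rfl⟩

include hrel hf ht in
theorem isEffCartier :
    BlowUp.IsEffCartierIdeal ((BlowUpLib.centre (Ideal.span (Set.range t))).comap f) := by
  intro x
  obtain ⟨D, j, q, hxD, -, hq⟩ := exists_affine (p := p) x ⊤ trivial
  have : Nonempty D.1 := ⟨⟨x, hxD⟩⟩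
  obtain ⟨h1, h2⟩ := ideal_eq hrel hf ht q hq
  exact ⟨D, hxD, _, mem_nonZeroDivisors_of_ne_zero h2, h1⟩

/-- A generator of the ideal. -/
abbrev gen (t : Fin (n + 1) → A) (j : Fin (n + 1)) : Ideal.span (Set.range t) :=
  ⟨t j, Ideal.subset_span ⟨j, rfl⟩⟩

omit [IsDomain A] in
theorem chart_gen_covers (x : BlowUpLib.localBlowUp (Ideal.span (Set.range t))) :
    ∃ j, t j ≠ 0 ∧ x ∈ (BlowUpLib.chart _ (gen t j)).opensRange := by
  obtain ⟨a, y, rfl⟩ := BlowUpLib.chart_covers _ x
  suffices ∃ j, BlowUpLib.frac (Ideal.span (Set.range t)) (gen t j) a ∉ y.asIdeal by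
    obtain ⟨j, hj⟩ := this
    refine ⟨j, fun h0 => hj ?_, BlowUpLib.chart_overlap _ (gen t j) a hj⟩
    convert y.asIdeal.zero_mem
    refine Subtype.ext ?_
    simp [BlowUpLib.frac, h0]
  by_contra! hall
  obtain ⟨c, hc⟩ := Ideal.mem_span_range_iff_exists_fun.mp a.2
  refine y.2.ne_top ((Ideal.eq_top_iff_one _).mpr ?_)
  have : (1 : BlowUp.affineAlgebra A (Ideal.span (Set.range t)) (a : A)) =
      ∑ m, algebraMap A _ (c m) * BlowUpLib.frac (Ideal.span (Set.range t)) (gen t m) a := by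
    refine Subtype.ext ?_
    have hu : IsUnit (algebraMap A (Localization.Away (a : A)) a) :=
      IsLocalization.Away.algebraMap_isUnit _
    refine hu.mul_left_injective ?_
    simp only [AddSubmonoidClass.coe_finsetSum, MulMemClass.coe_mul, OneMemClass.coe_one, one_mul,
      Finset.sum_mul, mul_assoc, BlowUpLib.frac, IsLocalization.mk'_spec]
    refine (congrArg (algebraMap A _) hc.symm).trans ?_
    rw [map_sum]
    simp [map_mul]
  rw [this]
  exact Submodule.sum_mem _ fun m _ => Ideal.mul_mem_left _ _ (hall m)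

variable {c : X' ⟶ BlowUpLib.localBlowUp (Ideal.span (Set.range t))}
  (hc : c ≫ BlowUpLib.toBase _ = f)

include hrel hf ht hc in
theorem generic_mem_chart {j : Fin (n + 1)} (hj : t j ≠ 0) :
    c (genericPoint X') ∈ (BlowUpLib.chart _ (gen t j)).opensRange := by
  obtain ⟨a, y, hy⟩ := BlowUpLib.chart_covers _ (c (genericPoint X'))
  rw [← hy]
  refine BlowUpLib.chart_overlap _ (gen t j) a fun hmem => hj ?_
  have h1 := Ideal.mul_mem_right (algebraMap A _ (a : A)) _ hmem
  erw [BlowUpLib.frac_mul _ (gen t j) a] at h1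
  have h2 : t j ∈ (f (genericPoint X')).asIdeal := by
    rw [← hc, Scheme.Hom.comp_apply, ← hy, ← Scheme.Hom.comp_apply, BlowUpLib.chart_toBase]
    exact h1
  rwa [hf, Ideal.mem_bot] at h2

include hrel hf ht hc in
theorem range_subset (x : X') {j : Fin (n + 1)}
    (hx : c x ∈ (BlowUpLib.chart _ (gen t j)).opensRange) : p x ∈ (chartP j).opensRange := by
  obtain ⟨D, k, q, hxD, hDU, hq⟩ := exists_affine (p := p) x
    (c ⁻¹ᵁ (BlowUpLib.chart _ (gen t j)).opensRange) hx
  have : Nonempty D.1 := ⟨⟨x, hxD⟩⟩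
  have : Nonempty (Spec Γ(X', D.1)) := ⟨D.2.isoSpec.hom (Classical.arbitrary D.1)⟩
  have : IsIntegral (Spec Γ(X', D.1)) := isIntegral_of_isOpenImmersion D.2.fromSpec
  have hr : Set.range (D.2.fromSpec ≫ c) ⊆ Set.range (BlowUpLib.chart _ (gen t j)) := by
    rintro _ ⟨z, rfl⟩
    exact hDU (D.2.range_fromSpec.le (Set.mem_range_self z))
  let γ := IsOpenImmersion.lift (BlowUpLib.chart _ (gen t j)) _ hr
  have hγ : γ ≫ Spec.map (CommRingCat.ofHom (algebraMap A _)) = D.2.fromSpec ≫ f := by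
    rw [← BlowUpLib.chart_toBase _ (gen t j), IsOpenImmersion.lift_fac_assoc, Category.assoc, hc]
  have e1 := congrArg (topHom γ) (BlowUpLib.frac_mul _ (gen t k) (gen t j))
  have e2 : ∀ a, topHom γ (algebraMap A _ a) = topHom (D.2.fromSpec ≫ f) a := fun a => by
    rw [← hγ, topHom_comp_SpecMap]; rfl
  rw [map_mul, e2, e2] at e1
  have e3 := hrel k _ D.2.fromSpec inferInstance inferInstance q hq j
  change _ * topHom (D.2.fromSpec ≫ f) (t j) = topHom (D.2.fromSpec ≫ f) (t k) at e1
  rw [← e1, ← mul_assoc] at e3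
  have hne : topHom (D.2.fromSpec ≫ f) (t j) ≠ 0 := fun h0 =>
    ne_zero hrel hf ht D.2.fromSpec q hq (by rw [← e1, h0, mul_zero])
  have hu : IsUnit (ratio q j) :=
    IsUnit.of_mul_eq_one _ (mul_right_cancel₀ hne (e3.symm.trans (one_mul _).symm))
  obtain ⟨z, hz⟩ : x ∈ Set.range D.2.fromSpec := D.2.range_fromSpec.ge hxD
  rw [← hz, ← Scheme.Hom.comp_apply, ← hq]
  exact range_subset_of_isUnit_ratio q hu z

variable [hcl : IsClosedImmersion (pullback.lift p f (specULiftZIsTerminal.hom_ext _ _) :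
  X' ⟶ CohB1.ProjSpaceOver n (Spec (CommRingCat.of A)))]

include hc hcl in
theorem isClosedMap : IsClosedMap c := by
  have h1 : IsProper f := by
    have : IsProper (CohB1.ProjSpace.toSpec n Z.{u}) := PnCoh.Chow.isProper_toSpec n _
    have : IsProper (CohB1.ProjSpaceOver.toBase n (Spec (CommRingCat.of A))) :=
      MorphismProperty.pullback_snd (P := @IsProper) _ _ inferInstance
    have := MorphismProperty.comp_mem @IsProper
      (pullback.lift p f (specULiftZIsTerminal.hom_ext _ _) :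
        X' ⟶ CohB1.ProjSpaceOver n (Spec (CommRingCat.of A)))
      (CohB1.ProjSpaceOver.toBase n _) inferInstance inferInstance
    rwa [CohB1.ProjSpaceOver.toBase, pullback.lift_snd] at this
  have : IsProper (BlowUpLib.toBase (Ideal.span (Set.range t))) :=
    BlowUpLib.isProper_toBase _ (Submodule.fg_span (Set.finite_range t))
  have : IsProper (c ≫ BlowUpLib.toBase (Ideal.span (Set.range t))) := hc ▸ h1
  have : IsProper c := IsProper.of_comp c (BlowUpLib.toBase _)
  exact c.isClosedMap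

include hrel hf ht hc hcl in
theorem isIso_restrict {j : Fin (n + 1)} (hj : t j ≠ 0) :
    IsIso (c ∣_ (BlowUpLib.chart _ (gen t j)).opensRange) := by
  let ch := BlowUpLib.chart (Ideal.span (Set.range t)) (gen t j)
  let W := c ⁻¹ᵁ ch.opensRange
  let η : W.toScheme := ⟨genericPoint X', generic_mem_chart hrel hf ht hc hj⟩
  have : Nonempty W.toScheme := ⟨η⟩
  have : IsIntegral W.toScheme := isIntegral_of_isOpenImmersion W.ι
  have hr : Set.range (W.ι ≫ c) ⊆ Set.range ch := by
    rintro _ ⟨z, rfl⟩; exact z.2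
  let γ := IsOpenImmersion.lift ch _ hr
  have hγ : γ ≫ ch = W.ι ≫ c := IsOpenImmersion.lift_fac _ _ _
  have hγb : γ ≫ Spec.map (CommRingCat.ofHom (algebraMap A _)) = W.ι ≫ f := by
    rw [← BlowUpLib.chart_toBase (Ideal.span (Set.range t)) (gen t j), ← Category.assoc, hγ, Category.assoc, hc]
  have hr' : Set.range (W.ι ≫ p) ⊆ Set.range (chartP j) := by
    rintro _ ⟨z, rfl⟩
    exact range_subset hrel hf ht hc (W.ι z) z.2
  let q := IsOpenImmersion.lift (chartP j) _ hr'
  have hq : q ≫ chartP j = W.ι ≫ p := IsOpenImmersion.lift_fac _ _ _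
  let v : Fin (n + 1) → BlowUp.affineAlgebra A (Ideal.span (Set.range t)) (t j) := fun m => BlowUpLib.frac (Ideal.span (Set.range t)) (gen t m) (gen t j)
  have hv : MvPolynomial.eval₂ (H23.PnLine.up _) v (MvPolynomial.X j) = 1 := by
    rw [MvPolynomial.eval₂_X]
    exact Subtype.ext (IsLocalization.mk'_self _ (Submonoid.mem_powers _))
  let δ : Spec (CommRingCat.of (BlowUp.affineAlgebra A (Ideal.span (Set.range t)) (t j))) ⟶
      CohB1.ProjSpaceOver n (Spec (CommRingCat.of A)) :=
    pullback.lift (Spec.map (CommRingCat.ofHom (vecHom v hv)) ≫ chartP j)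
      (Spec.map (CommRingCat.ofHom (algebraMap A _))) (specULiftZIsTerminal.hom_ext _ _)
  have hδ : γ ≫ δ = W.ι ≫ pullback.lift p f (specULiftZIsTerminal.hom_ext _ _) := by
    refine pullback.hom_ext ?_ ?_
    · simp only [δ, Category.assoc, pullback.lift_fst]
      rw [← hq, ← Category.assoc]
      congr 1
      refine topHom_ext (hom_ext (X_mem j) fun m => ?_)
      rw [topHom_comp_SpecMap, RingHom.comp_apply, CommRingCat.hom_ofHom, vecHom_coord]
      refine mul_right_cancel₀ (ne_zero hrel hf ht W.ι q hq) (Eq.trans ?_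
        (hrel j _ W.ι inferInstance inferInstance q hq m))
      rw [← hγb, topHom_comp_SpecMap, RingHom.comp_apply, RingHom.comp_apply, ← map_mul]
      exact congrArg (topHom γ) (BlowUpLib.frac_mul (Ideal.span (Set.range t)) (gen t m) (gen t j))
    · simp only [δ, Category.assoc, pullback.lift_snd]
      exact hγb
  have : IsImmersion (γ ≫ δ) := by rw [hδ]; infer_instance
  have : IsImmersion γ := IsImmersion.of_comp γ δ
  have : IsClosedImmersion γ := by
    refine IsClosedImmersion.of_isPreimmersion γ ?_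
    have e : Set.range γ = ch ⁻¹' Set.range c := by
      ext z
      constructor
      · rintro ⟨w, rfl⟩
        exact ⟨W.ι w, by rw [← Scheme.Hom.comp_apply, ← hγ, Scheme.Hom.comp_apply]⟩
      · rintro ⟨x, hx⟩
        refine ⟨⟨x, show c x ∈ ch.opensRange from ⟨z, hx.symm⟩⟩, ch.isOpenEmbedding.injective ?_⟩
        rw [← Scheme.Hom.comp_apply, hγ, Scheme.Hom.comp_apply]
        exact hx
    rw [e]
    exact (isClosedMap (p := p) hc).isClosed_range.preimage ch.continuous
  have hgen : (γ η).asIdeal = ⊥ := by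
    refine (Submodule.eq_bot_iff _).mpr fun y hy => ?_
    obtain ⟨⟨r, s, k, rfl⟩, hrs⟩ := IsLocalization.surj (Submonoid.powers (t j)) y.1
    have e1 : algebraMap A (BlowUp.affineAlgebra A (Ideal.span (Set.range t)) (t j)) r ∈ (γ η).asIdeal := by
      rw [show algebraMap A (BlowUp.affineAlgebra A (Ideal.span (Set.range t)) (t j)) r =
        y * algebraMap A _ (t j ^ k) from Subtype.ext hrs.symm]
      exact Ideal.mul_mem_right _ _ hy
    have e2 : r ∈ (f (genericPoint X')).asIdeal := by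
      rw [show genericPoint X' = W.ι η from rfl, ← Scheme.Hom.comp_apply, ← hγb]
      exact e1
    rw [hf, Ideal.mem_bot] at e2
    rw [e2, map_zero] at hrs
    exact Subtype.ext ((IsUnit.mul_left_eq_zero
      (IsLocalization.map_units (Localization.Away (t j)) (⟨t j ^ k, k, rfl⟩ : Submonoid.powers (t j)))).mp hrs)
  have : Surjective γ := by
    refine ⟨fun z => ?_⟩
    have hz : z ∈ closure ({γ η} : Set _) := by
      refine specializes_iff_mem_closure.mp ?_
      rw [← PrimeSpectrum.le_iff_specializes]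
      show (γ η).asIdeal ≤ z.asIdeal
      rw [hgen]; exact bot_le
    exact closure_minimal (Set.singleton_subset_iff.mpr (Set.mem_range_self η)) γ.isClosedEmbedding.isClosed_range hz
  have : IsDomain (BlowUp.affineAlgebra A (Ideal.span (Set.range t)) (t j)) := by
    have : IsDomain (Localization.Away (t j)) :=
      IsLocalization.isDomain_localization (powers_le_nonZeroDivisors_of_noZeroDivisors hj)
    infer_instance
  have : IsIso γ := isIso_of_isClosedImmersion_of_surjective γ
  have e : c ∣_ ch.opensRange = γ ≫ ch.isoOpensRange.hom := by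
    rw [← cancel_mono ch.opensRange.ι, morphismRestrict_ι, Category.assoc,
      Scheme.Hom.isoOpensRange_hom_ι, hγ]
  rw [e]
  infer_instance

include hrel hf ht hcl in
theorem isBlowUp_affine :
    BlowUp.IsBlowUp f (BlowUpLib.centre (Ideal.span (Set.range t))) := by
  obtain ⟨c, hc⟩ := BlowUpLib.exists_lift _ (isEffCartier hrel hf ht)
  have : IsIso c := by
    refine IsZariskiLocalAtTarget.of_iSup_eq_top (P := MorphismProperty.isomorphisms Scheme)
      (fun j : {j // t j ≠ 0} => (BlowUpLib.chart _ (gen t j.1)).opensRange) ?_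
      fun j => isIso_restrict hrel hf ht hc j.2
    refine top_le_iff.mp fun x _ => TopologicalSpace.Opens.mem_iSup.mpr ?_
    obtain ⟨j, h1, h2⟩ := chart_gen_covers x
    exact ⟨⟨j, h1⟩, h2⟩
  rw [← hc]
  exact BlowUpLib.isBlowUp_iso_comp c (BlowUpLib.isBlowUp_local _)

end Main

end Groth.Agent.BirProj
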