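import Groth.Agent.BirProj.Affine
import Groth.Agent.ZeroSchX.Basic
import Groth.Agent.AmpleX.Basis
import Groth.Agent.AmpleX.Separated

/-!
# Projective birational morphisms to a scheme with an ample module are blow-ups
-/

set_option autoImplicit false
set_option backward.isDefEq.respectTransparency false
set_option backward.isDefEq.respectTransparency.types false
universe u
open CategoryTheory Limits AlgebraicGeometry TopologicalSpace

namespace Groth.Agent.BirProj

open H23.PnLine (coord Z)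
open Groth.Agent

section Ratio

variable {n : ℕ} {W : Scheme.{u}}

theorem ratio_mul {j k : Fin (n + 1)}
    (q : W ⟶ Spec (CommRingCat.of (HomogeneousLocalization.Away (gr.{u} n) (MvPolynomial.X j))))
    (q' : W ⟶ Spec (CommRingCat.of (HomogeneousLocalization.Away (gr.{u} n) (MvPolynomial.X k))))
    (h : q ≫ chartP j = q' ≫ chartP k) (m : Fin (n + 1)) :
    ratio q m * ratio q' j = ratio q' m := by
  let x : MvPolynomial (Fin (n + 1)) Z.{u} := MvPolynomial.X j * MvPolynomial.X k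
  let aj := HomogeneousLocalization.awayMap (gr.{u} n) (X_mem k) (x := x) rfl
  let ak := HomogeneousLocalization.awayMap (gr.{u} n) (X_mem j) (x := x) (mul_comm _ _)
  have hx : x ∈ gr.{u} n (1 + 1) := SetLike.mul_mem_graded (X_mem j) (X_mem k)
  let c := Proj.awayι (gr.{u} n) x hx (by omega : 0 < 1 + 1)
  have hr : Set.range (q ≫ chartP j) ⊆ Set.range c := by
    rintro _ ⟨w, rfl⟩
    refine (show (q ≫ chartP j) w ∈ c.opensRange from ?_)
    rw [Proj.opensRange_awayι, Proj.basicOpen_mul]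
    refine ⟨?_, ?_⟩
    · rw [← Proj.opensRange_awayι (gr.{u} n) _ (X_mem j) Nat.one_pos]
      exact ⟨q w, rfl⟩
    · rw [h, ← Proj.opensRange_awayι (gr.{u} n) _ (X_mem k) Nat.one_pos]
      exact ⟨q' w, rfl⟩
  let s := IsOpenImmersion.lift c _ hr
  have hq : q = s ≫ Spec.map (CommRingCat.ofHom aj) := by
    rw [← cancel_mono (chartP j), Category.assoc, Proj.SpecMap_awayMap_awayι (gr.{u} n) (X_mem j)
      Nat.one_pos (X_mem k) rfl]
    exact (IsOpenImmersion.lift_fac _ _ _).symm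
  have hq' : q' = s ≫ Spec.map (CommRingCat.ofHom ak) := by
    rw [← cancel_mono (chartP k), Category.assoc, Proj.SpecMap_awayMap_awayι (gr.{u} n) (X_mem k)
      Nat.one_pos (X_mem j) (mul_comm _ _), ← h]
    exact (IsOpenImmersion.lift_fac _ _ _).symm
  have key : aj (coord (X_mem j) m) * ak (coord (X_mem k) j) = ak (coord (X_mem k) m) := by
    apply HomogeneousLocalization.val_injective
    rw [HomogeneousLocalization.val_mul]
    simp only [aj, ak, coord, HomogeneousLocalization.Away.mk, HomogeneousLocalization.val_awayMap_mk,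
      Localization.mk_mul, Localization.mk_eq_mk_iff, Localization.r_iff_exists]
    refine ⟨1, ?_⟩
    simp only [OneMemClass.coe_one, one_mul, Submonoid.coe_mul, x]
    ring
  rw [ratio, ratio, ratio, hq, hq', topHom_comp_SpecMap, topHom_comp_SpecMap]
  simp only [RingHom.comp_apply, CommRingCat.hom_ofHom]
  rw [← map_mul, key]

theorem ratio_self {j : Fin (n + 1)}
    (q : W ⟶ Spec (CommRingCat.of (HomogeneousLocalization.Away (gr.{u} n) (MvPolynomial.X j)))) :
    ratio q j = 1 := by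
  rw [ratio, show coord (X_mem j) j = 1 from H23.PnLine.mk_self (X_mem j), map_one]

theorem topHom_eq_appLE {X : Scheme.{u}} {V : X.Opens} (hV : IsAffineOpen V)
    (r : W ⟶ Spec Γ(X, V)) (h : W ⟶ X) (hr : r ≫ hV.fromSpec = h) (e : ⊤ ≤ h ⁻¹ᵁ V) (a : Γ(X, V)) :
    topHom r a = h.appLE V ⊤ e a := by
  subst hr
  rw [Scheme.Hom.comp_appLE, hV.fromSpec_app_of_le V le_rfl, topHom]
  simp only [homOfLE_refl, op_id, CategoryTheory.Functor.map_id, Category.id_comp, Category.assoc,
    Scheme.Hom.map_appLE]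
  rw [show r.appLE ⊤ ⊤ le_top = r.appTop from r.appLE_eq_app]

end Ratio

theorem appTop_injective {W W' : Scheme.{u}} [IsIntegral W] [Nonempty W'] (g : W' ⟶ W) [IsOpenImmersion g] :
    Function.Injective g.appTop := by
  refine (injective_iff_map_eq_zero g.appTop.hom).mpr fun a ha => ?_
  have h1 : g ⁻¹ᵁ W.basicOpen a = ⊥ := by
    rw [Scheme.preimage_basicOpen_top]
    erw [ha]
    exact Scheme.basicOpen_zero _ _
  by_contra h0
  obtain ⟨w⟩ := ‹Nonempty W'›
  obtain ⟨y, hy1, z, hz⟩ := nonempty_preirreducible_inter (W.basicOpen a).isOpen g.opensRange.isOpen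
    (by
      rw [← Opens.ne_bot_iff_nonempty]
      exact fun hb => h0 ((basicOpen_eq_bot_iff a).mp hb))
    ⟨g w, w, rfl⟩
  subst hz
  exact h1.le hy1

section Main

variable {X' X : Scheme.{u}} [IsIntegral X'] [IsIntegral X]

theorem map_genericPoint (f : X' ⟶ X) (U : X.Opens) (hne : (U : Set X).Nonempty) [IsIso (f ∣_ U)] :
    f (genericPoint X') = genericPoint X ∧ genericPoint X' ∈ f ⁻¹ᵁ U := by
  have hη : genericPoint X ∈ U :=
    ((genericPoint_spec X).mem_open_set_iff U.isOpen).mpr (hne.mono (fun x hx => ⟨trivial, hx⟩))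
  have hσ : (inv (f ∣_ U) ≫ (f ⁻¹ᵁ U).ι) ≫ f = U.ι := by
    rw [Category.assoc, ← morphismRestrict_ι, IsIso.inv_hom_id_assoc]
  have e' : f ((inv (f ∣_ U)) ⟨genericPoint X, hη⟩).1 = genericPoint X :=
    congr($(hσ) (⟨genericPoint X, hη⟩ : U.toScheme))
  have hs := ((genericPoint_spec X').specializes (y := ((inv (f ∣_ U)) ⟨genericPoint X, hη⟩).1) trivial).map f.continuous
  rw [e'] at hs
  have h := hs.antisymm ((genericPoint_spec X).specializes trivial)
  exact ⟨h.eq, by show f (genericPoint X') ∈ U; rw [h.eq]; exact hη⟩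

/-- A projective birational morphism to an integral scheme with an ample module is a blowing-up. -/
theorem main (M : X.Modules) (hM : CohB1.IsAmple M)
    (f : X' ⟶ X) (N : ℕ) (i : X' ⟶ CohB1.ProjSpaceOver N X) [IsClosedImmersion i]
    (hi : i ≫ CohB1.ProjSpaceOver.toBase N X = f)
    (hbir : ∃ U : X.Opens, (U : Set X).Nonempty ∧ IsIso (f ∣_ U)) :
    ∃ I : X.IdealSheafData, BlowUp.IsBlowUp f I := by
  classical
  haveI : X.IsSeparated := AmpleX.isSeparated_of_isAmple hM
  haveI : CompactSpace X := hM.2.1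
  obtain ⟨U, hUne, hUiso⟩ := hbir
  obtain ⟨hfη, hη'U⟩ := map_genericPoint f U hUne
  let p : X' ⟶ PN.{u} N := i ≫ pullback.fst _ _
  obtain ⟨j₀, hj₀⟩ := Opens.mem_iSup.mp
    ((iSup_range_chartP (n := N)).ge (Set.mem_univ (p (genericPoint X'))))
  let σ : U.toScheme ⟶ X' := inv (f ∣_ U) ≫ (f ⁻¹ᵁ U).ι
  have hσf : σ ≫ f = U.ι := by
    simp only [σ, Category.assoc, ← morphismRestrict_ι, IsIso.inv_hom_id_assoc]
  let U₁ : X.Opens := U.ι ''ᵁ (σ ⁻¹ᵁ (p ⁻¹ᵁ (chartP j₀).opensRange))
  have hU₁ : genericPoint X ∈ U₁ := by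
    refine ⟨(f ∣_ U) ⟨genericPoint X', hη'U⟩, ?_, ?_⟩
    · show σ ((f ∣_ U) ⟨genericPoint X', hη'U⟩) ∈ p ⁻¹ᵁ (chartP j₀).opensRange
      rw [← Scheme.Hom.comp_apply, show (f ∣_ U) ≫ σ = (f ⁻¹ᵁ U).ι by simp [σ]]
      exact hj₀
    · show U.ι ((f ∣_ U) ⟨genericPoint X', hη'U⟩) = _
      rw [← Scheme.Hom.comp_apply, morphismRestrict_ι]
      exact hfη
  obtain ⟨m, hm, s, hηG, hGle, hGaff⟩ := AmpleX.exists_genLocus_le hM hU₁
  let L₀ := CohB1.tensorPow M m
  let G := CohB1.genLocus L₀ s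
  have hL₀ : PicF.IsInvertible L₀ := InvX.isInvertible_tensorPow hM.1 m
  have hGU : G ≤ U := hGle.trans (by rintro _ ⟨z, -, rfl⟩; exact z.2)
  let l : Spec Γ(X, G) ⟶ U.toScheme := IsOpenImmersion.lift U.ι hGaff.fromSpec (by
    rw [Scheme.Opens.range_ι, hGaff.range_fromSpec]; exact hGU)
  have hl : l ≫ U.ι = hGaff.fromSpec := IsOpenImmersion.lift_fac _ _ _
  have hrange : Set.range ((l ≫ σ) ≫ p) ⊆ Set.range (chartP j₀) := by
    rintro _ ⟨z, rfl⟩
    obtain ⟨u, hu, hu'⟩ := hGle (hGaff.range_fromSpec.le (Set.mem_range_self z))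
    have : u = l z := U.ι.isOpenEmbedding.injective (hu'.trans congr($(hl.symm) z))
    subst this
    exact hu
  let qG := IsOpenImmersion.lift (chartP j₀) _ hrange
  let φ : Fin (N + 1) → Γ(X, G) := fun k => (Scheme.ΓSpecIso Γ(X, G)).hom (ratio qG k)
  have hφ₀ : φ j₀ = 1 := by simp [φ, ratio_self]
  choose n₀ hn₀ using fun k => AmpleX.exists_extend (M := Coh.structureModule X) (AmpleX.isQCoh_one X)
    hL₀ s (show Γ(Coh.structureModule X, G) from φ k)
  let n := Finset.univ.sup n₀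
  choose T hT using fun k => hn₀ k n (Finset.le_sup (Finset.mem_univ k))
  let L := CohB1.tensorMod (Coh.structureModule X) (CohB1.tensorPow L₀ n)
  have hL : PicF.IsInvertible L :=
    InvX.isInvertible_tensorMod InvX.isInvertible_structureModule (InvX.isInvertible_tensorPow hL₀ n)
  let P : Γ(L, G) := InvX.tmul (M := Coh.structureModule X)
      (show Γ(Coh.structureModule X, G) from (1 : Γ(X, G)))
      (AmpleX.powElt (AModX.res _ (le_top : G ≤ ⊤) (InvX.one s)) n)
  have hP : InvX.IsFrame P := by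
    refine InvX.isFrame_tmul (InvX.isFrame_one G) (AmpleX.isFrame_powElt ?_ n)
    refine InvX.isFrame_of_germ fun y hy => ?_
    obtain ⟨W, hyW, hW⟩ := InvX.mem_genLocus hy
    have := hW.germ_bijective hyW
    rw [InvX.germ_res'] at this ⊢
    exact this
  have hTP : ∀ k, AModX.res L (le_top : G ≤ ⊤) (T k) = φ k • P := fun k => by
    rw [hT k, ← InvX.tmul_smul_left]
    exact congrArg (fun z => InvX.tmul z _) (mul_one (φ k)).symm
  let C : X.IdealSheafData := ⨆ k, PicF2.zeroScheme L (InvX.ofSect (T k))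
  refine ⟨C, ?_⟩
  -- local charts
  have hloc : ∀ x : X, ∃ (V : X.Opens), IsAffineOpen V ∧ x ∈ V ∧ ∃ e : Γ(L, V), InvX.IsFrame e := by
    intro x
    obtain ⟨V₀, hx, e, he⟩ := InvX.exists_frame hL x
    obtain ⟨_, ⟨V, hV, rfl⟩, hxV, hle⟩ :=
      X.isBasis_affineOpens.exists_subset_of_mem_open (show x ∈ V₀ from hx) V₀.2
    exact ⟨V, hV, hxV, _, he.res (show V ≤ V₀ from hle)⟩
  choose V hV hxV e he using hloc
  choose τ hτ using fun (x : X) k => (he x).exists_coord le_rfl (AModX.res L (le_top : V x ≤ ⊤) (T k))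
  simp only [AModX.res_self] at hτ
  refine BlowUpLib.isBlowUp_of_local (fun x => (hV x).fromSpec)
    (fun x => ⟨x, (hV x).range_fromSpec.ge (hxV x)⟩)
    (fun x => pullback.fst (hV x).fromSpec f) (fun x => pullback.snd (hV x).fromSpec f)
    (fun x => IsPullback.of_hasPullback _ _) fun x => ?_
  have hCV : C.ideal ⟨V x, hV x⟩ = Ideal.span (Set.range (τ x)) := by
    rw [Scheme.IdealSheafData.ideal_iSup, iSup_apply]
    simp only [ZeroSchX.ideal_zeroScheme hL]
    rw [Ideal.span, Submodule.span_range_eq_iSup]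
    refine iSup_congr fun k => ZeroSchX.zeroIdealOn_eq_span _ (he x) ?_
    rw [← hτ x k, ← ZeroSchX.res_sv _ le_top]
    exact congrArg (AModX.res L _) (InvX.one_ofSect (T k))
  rw [BlowUpLib.comap_fromSpec C ⟨V x, hV x⟩, hCV]
  -- the affine situation
  let fst := pullback.fst (hV x).fromSpec f
  let snd := pullback.snd (hV x).fromSpec f
  have hηV : genericPoint X ∈ V x :=
    ((genericPoint_spec X).mem_open_set_iff (V x).isOpen).mpr ⟨x, trivial, hxV x⟩
  obtain ⟨z₀, hz₀⟩ : genericPoint X ∈ Set.range (hV x).fromSpec := (hV x).range_fromSpec.ge hηV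
  obtain ⟨η₁, hη₁, hη₁'⟩ := Scheme.Pullback.exists_preimage_pullback z₀ (genericPoint X')
    (hz₀.trans hfη.symm)
  haveI : Nonempty (pullback (hV x).fromSpec f : Scheme.{u}) := ⟨η₁⟩
  haveI : IsIntegral (pullback (hV x).fromSpec f : Scheme.{u}) := isIntegral_of_isOpenImmersion snd
  haveI : Nonempty (V x) := ⟨⟨x, hxV x⟩⟩
  haveI : IsClosedImmersion (pullback.lift (snd ≫ p) fst (specULiftZIsTerminal.hom_ext _ _) :
      pullback (hV x).fromSpec f ⟶ CohB1.ProjSpaceOver N (Spec Γ(X, V x))) := by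
    let ψ : CohB1.ProjSpaceOver N (Spec Γ(X, V x)) ⟶ CohB1.ProjSpaceOver N X :=
      pullback.lift (pullback.fst _ _) (pullback.snd _ _ ≫ (hV x).fromSpec)
        (specULiftZIsTerminal.hom_ext _ _)
    have low : IsPullback ψ (CohB1.ProjSpaceOver.toBase N (Spec Γ(X, V x)))
        (CohB1.ProjSpaceOver.toBase N X) (hV x).fromSpec := by
      refine IsPullback.of_right ?_ (pullback.lift_snd _ _ _) (IsPullback.of_hasPullback _ _)
      rw [pullback.lift_fst]
      rw [show (hV x).fromSpec ≫ specULiftZIsTerminal.from X = specULiftZIsTerminal.from _ from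
        specULiftZIsTerminal.hom_ext _ _]
      exact IsPullback.of_hasPullback _ _
    have big : IsPullback snd ((pullback.lift (snd ≫ p) fst (specULiftZIsTerminal.hom_ext _ _) :
        pullback (hV x).fromSpec f ⟶ CohB1.ProjSpaceOver N (Spec Γ(X, V x))) ≫
          CohB1.ProjSpaceOver.toBase N _) (i ≫ CohB1.ProjSpaceOver.toBase N X) (hV x).fromSpec := by
      rw [CohB1.ProjSpaceOver.toBase, pullback.lift_snd]
      show IsPullback snd fst (i ≫ CohB1.ProjSpaceOver.toBase N X) _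
      rw [hi]
      exact (IsPullback.of_hasPullback _ _).flip
    have top := IsPullback.of_bot big (pullback.hom_ext (by
        simp only [ψ, p, snd, Category.assoc, pullback.lift_fst])
      (by
        simp only [ψ, Category.assoc, pullback.lift_snd, pullback.lift_snd_assoc]
        rw [show i ≫ pullback.snd _ _ = f from hi]
        exact pullback.condition.symm)) low
    exact MorphismProperty.of_isPullback (P := @IsClosedImmersion) top inferInstance
  refine isBlowUp_affine (f := fst) (p := snd ≫ p) (t := τ x) ?_ ?_ ?_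
  rotate_left
  · -- the generic point
    have h1 : genericPoint (pullback (hV x).fromSpec f : Scheme.{u}) = η₁ :=
      snd.isOpenEmbedding.injective ((genericPoint_eq_of_isOpenImmersion snd).trans hη₁'.symm)
    rw [h1]
    erw [hη₁]
    have h2 : z₀ = genericPoint (Spec Γ(X, V x)) := (hV x).fromSpec.isOpenEmbedding.injective
      (hz₀.trans (genericPoint_eq_of_isOpenImmersion (hV x).fromSpec).symm)
    rw [h2, genericPoint_eq_bot_of_affine]
    rfl
  · -- a nonzero generator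
    refine ⟨j₀, fun h0 => ?_⟩
    have hVG : genericPoint X ∈ V x ⊓ G := ⟨hηV, hηG⟩
    haveI : Nonempty (V x ⊓ G : X.Opens) := ⟨⟨_, hVG⟩⟩
    have e1 := congrArg (AModX.res L (inf_le_left : V x ⊓ G ≤ V x)) (hτ x j₀)
    rw [h0, AModX.res_res, zero_smul, map_zero, ← AModX.res_res (le_top : G ≤ ⊤) (inf_le_right),
      hTP, hφ₀, one_smul] at e1
    have := hP.coord_unique (inf_le_right : V x ⊓ G ≤ G)
      (r := (1 : Γ(X, V x ⊓ G))) (r' := 0) (by rw [one_smul, zero_smul]; exact e1)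
    exact one_ne_zero this
  intro j W g _ _ q hq k
  haveI : IsIntegral W := isIntegral_of_isOpenImmersion g
  let W₀ : W.Opens := (g ≫ snd) ⁻¹ᵁ (f ⁻¹ᵁ G ⊓ p ⁻¹ᵁ (chartP j₀).opensRange)
  have hW₀ : Nonempty W₀.toScheme := by
    obtain ⟨w, hw⟩ : genericPoint X' ∈ Set.range (g ≫ snd) := by
      refine ((genericPoint_spec X').mem_open_set_iff (g ≫ snd).opensRange.isOpen).mpr ?_
      exact ⟨_, trivial, Classical.arbitrary W, rfl⟩
    refine ⟨⟨w, ?_⟩⟩
    show (g ≫ snd) w ∈ f ⁻¹ᵁ G ⊓ p ⁻¹ᵁ (chartP j₀).opensRange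
    rw [hw]
    exact ⟨show f (genericPoint X') ∈ G by rw [hfη]; exact hηG, hj₀⟩
  refine appTop_injective W₀.ι ?_
  simp only [map_mul]
  change W₀.ι.appTop.hom.comp (topHom (g ≫ fst)) (τ x k) =
    W₀.ι.appTop (ratio q k) * W₀.ι.appTop.hom.comp (topHom (g ≫ fst)) (τ x j)
  rw [← topHom_comp, ← ratio_comp]
  let g₀ := W₀.ι ≫ g ≫ snd
  let h : W₀.toScheme ⟶ X := g₀ ≫ f
  have hhV : (W₀.ι ≫ g ≫ fst) ≫ (hV x).fromSpec = h := by
    simp only [h, g₀, fst, snd, Category.assoc, pullback.condition]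
  have hrG : Set.range h ⊆ Set.range hGaff.fromSpec := by
    rw [hGaff.range_fromSpec]
    rintro _ ⟨w, rfl⟩
    exact w.2.1
  let r := IsOpenImmersion.lift hGaff.fromSpec h hrG
  have hr : r ≫ hGaff.fromSpec = h := IsOpenImmersion.lift_fac _ _ _
  have hg₀ : g₀ = r ≫ l ≫ σ := by
    have hrU : Set.range g₀ ⊆ Set.range (f ⁻¹ᵁ U).ι := by
      rw [Scheme.Opens.range_ι]
      rintro _ ⟨w, rfl⟩
      exact hGU w.2.1
    let h' := IsOpenImmersion.lift (f ⁻¹ᵁ U).ι g₀ hrU
    have hh' : h' ≫ (f ⁻¹ᵁ U).ι = g₀ := IsOpenImmersion.lift_fac _ _ _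
    have : h' ≫ (f ∣_ U) = r ≫ l := by
      rw [← cancel_mono U.ι, Category.assoc, Category.assoc, morphismRestrict_ι, hl, hr,
        reassoc_of% hh']
    rw [← hh', show h' = (r ≫ l) ≫ inv (f ∣_ U) by rw [← this, Category.assoc, IsIso.hom_inv_id, Category.comp_id]]
    simp only [σ, Category.assoc]
  let q₀ := r ≫ qG
  have hq₀ : (W₀.ι ≫ q) ≫ chartP j = q₀ ≫ chartP j₀ := by
    simp only [q₀, qG, Category.assoc, IsOpenImmersion.lift_fac, hq]
    rw [reassoc_of% hg₀.symm]
    simp [g₀]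
  have hratio : ∀ k, ratio q₀ k = topHom r (φ k) := fun k => by
    rw [ratio_comp, topHom]
    simp only [φ, CommRingCat.hom_comp, RingHom.comp_apply]
    change _ = r.appTop ((Scheme.ΓSpecIso Γ(X, G)).inv ((Scheme.ΓSpecIso Γ(X, G)).hom _))
    rw [Iso.hom_inv_id_apply]
  have hτφ : ∀ k, topHom (W₀.ι ≫ g ≫ fst) (τ x k) =
      ratio q₀ k * topHom (W₀.ι ≫ g ≫ fst) (τ x j₀) := by
    intro k
    have eVG : ⊤ ≤ h ⁻¹ᵁ (V x ⊓ G) := fun w _ => ⟨by
      show h w ∈ V x
      rw [← hhV]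
      exact (hV x).range_fromSpec.le ⟨_, rfl⟩, by exact w.2.1⟩
    have key : ∀ k, AModX.resR (inf_le_left : V x ⊓ G ≤ V x) (τ x k) =
        AModX.resR (inf_le_right : V x ⊓ G ≤ G) (φ k) *
          AModX.resR (inf_le_left : V x ⊓ G ≤ V x) (τ x j₀) := by
      intro k
      refine (he x).coord_unique inf_le_left ?_
      rw [mul_smul, ← AModX.res_smul, ← AModX.res_smul, ← hτ, ← hτ, AModX.res_res, AModX.res_res,
        ← AModX.res_res (le_top : G ≤ ⊤) (inf_le_right),
        ← AModX.res_res (le_top : G ≤ ⊤) (inf_le_right : V x ⊓ G ≤ G) (T j₀), hTP, hTP, hφ₀,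
        one_smul, AModX.res_smul]
    have := congrArg (h.appLE (V x ⊓ G) ⊤ eVG) (key k)
    rw [map_mul] at this
    rw [hratio, topHom_eq_appLE hGaff r h hr (eVG.trans fun w hw => hw.2),
      topHom_eq_appLE (hV x) _ h hhV (eVG.trans fun w hw => hw.1),
      topHom_eq_appLE (hV x) _ h hhV (eVG.trans fun w hw => hw.1)]
    simp only [AModX.resR, ← ConcreteCategory.comp_apply, Scheme.Hom.map_appLE] at this
    exact this
  rw [hτφ k, hτφ j, ← mul_assoc, ratio_mul (W₀.ι ≫ q) q₀ hq₀ k]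

end Main

end Groth.Agent.BirProj
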